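import Groth.Agent.PicSmooth.Open
import Groth.Agent.LineLift.System
import Groth.Agent.LineDesc.RelPic

/-! Lifting classes of invertible modules to small extensions of Artinian local rings. -/

set_option autoImplicit false
set_option linter.style.haveILetI false
set_option backward.isDefEq.respectTransparency false
set_option backward.isDefEq.respectTransparency.types false
set_option maxHeartbeats 1000000

universe u

open CategoryTheory CategoryTheory.Limits AlgebraicGeometry

namespace Groth.Agent.PicSmooth

variable {X S : Scheme.{u}} (f : X ⟶ S) [IsProper f] [Flat f]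

/-- Classes lift along small extensions when the second cohomology of the fibre vanishes. -/
theorem exists_lift_class {A : Type u} [CommRing A] [IsLocalRing A] [IsNoetherianRing A] (I : Ideal A)
    (hI : I ≠ ⊤) (hIm : I * IsLocalRing.maximalIdeal A = ⊥) (b : Spec (CommRingCat.of A) ⟶ S)
    (h : Subsingleton (Coh.HH (f.fiber (b (IsLocalRing.closedPoint A))) (Coh.structureModule _) 2))
    (T₀ : Over S) (j : T₀ ⟶ Over.mk b) (e : T₀.left ≅ Spec (CommRingCat.of (A ⧸ I)))
    (he : j.left = e.hom ≫ Spec.map (CommRingCat.ofHom (Ideal.Quotient.mk I)))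
    (c : PicF.Cl (PicF.XT f T₀)) (hc : PicF.IsInvertibleCl c) :
    ∃ d : PicF.Cl (PicF.XT f (Over.mk b)), PicF.IsInvertibleCl d ∧ PicF.pullCl (PicF.XTmap f j) d = c := by
  let π : PicF.XT f (Over.mk b) ⟶ Spec (CommRingCat.of A) := pullback.snd f b
  let b' : Spec (CommRingCat.of (IsLocalRing.ResidueField A)) ⟶ S :=
    Spec.map (CommRingCat.ofHom (IsLocalRing.residue A)) ≫ b
  have hb' : b' (IsLocalRing.closedPoint (IsLocalRing.ResidueField A)) = b (IsLocalRing.closedPoint A) := by
    rw [Scheme.Hom.comp_apply]
    refine congrArg b (PrimeSpectrum.ext ?_)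
    change Ideal.comap (IsLocalRing.residue A) (IsLocalRing.maximalIdeal _) = _
    rw [IsLocalRing.maximalIdeal_eq_bot, ← RingHom.ker_eq_comap_bot]
    exact IsLocalRing.ker_residue
  rw [← hb'] at h
  let α : S.residueField (b' (IsLocalRing.closedPoint (IsLocalRing.ResidueField A))) ⟶
      CommRingCat.of (IsLocalRing.ResidueField A) := S.descResidueField (Scheme.stalkClosedPointTo b')
  have hα : Spec.map α ≫ S.fromSpecResidueField _ = b' :=
    Scheme.descResidueField_stalkClosedPointTo_fromSpecResidueField _ S b'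
  let Y₀ := pullback π (Spec.map (CommRingCat.ofHom (IsLocalRing.residue A)))
  have sq₀ : IsPullback (pullback.fst π (Spec.map (CommRingCat.ofHom (IsLocalRing.residue A))))
      (pullback.snd π (Spec.map (CommRingCat.ofHom (IsLocalRing.residue A)))) π (Spec.map (CommRingCat.ofHom (IsLocalRing.residue A))) :=
    IsPullback.of_hasPullback _ _
  have h2 : Subsingleton (Coh.HH Y₀ (Coh.structureModule Y₀) 2) :=
    subsingleton_baseChange f 2 h α _ _ (by rw [hα]; exact sq₀.paste_horiz (IsPullback.of_hasPullback f b))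
  have sq : IsPullback (PicF.XTmap f j) (pullback.snd f T₀.hom ≫ e.hom) π
      (Spec.map (CommRingCat.ofHom (Ideal.Quotient.mk I))) :=
    (LineDesc.Rig.isPullback_XTmap j).of_iso (Iso.refl _) (Iso.refl _) e (Iso.refl _) (by simp) (by simp)
      (by simp [π]) (by simp [he])
  haveI : (RingHom.ker (IsLocalRing.residue A)).IsMaximal := by
    rw [IsLocalRing.ker_residue]; exact IsLocalRing.maximalIdeal.isMaximal A
  haveI : Flat π := inferInstanceAs (Flat (pullback.snd f b))
  haveI : (PicF.XT f (Over.mk b)).IsSeparated := by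
    haveI : IsSeparated π := inferInstanceAs (IsSeparated (pullback.snd f b))
    exact ⟨by rw [← terminal.comp_from π]; infer_instance⟩
  obtain ⟨L, rfl, hL⟩ := hc
  obtain ⟨L', hL', ⟨a⟩⟩ := LineLift.exists_lift_step (R := A) (Ideal.Quotient.mk I) (IsLocalRing.residue A) π Ideal.Quotient.mk_surjective
    IsLocalRing.residue_surjective (by rw [Ideal.mk_ker, IsLocalRing.ker_residue]; exact IsLocalRing.le_maximalIdeal hI)
    (by rw [Ideal.mk_ker, IsLocalRing.ker_residue, mul_comm]; exact hIm) sq sq₀ h2 L hL
  exact ⟨PicF.cl L', ⟨L', rfl, hL'⟩, H23.PicMul.cl_eq_iff.2 ⟨a⟩⟩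

end Groth.Agent.PicSmooth
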