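import Groth.Agent.PicSmooth.Root
import Groth.Agent.LineDesc.RelPic
import Groth.Agent.UnitsSeq.Over
import Groth.Agent.S2793
import Groth.Agent.S1488
import Groth.Agent.FlatPtDesc.Source
import Groth.Agent.StalkLoc7.Basic
import Groth.Prelude.Def_PicRel2
import Mathlib.Algebra.DualNumber
import Mathlib.RingTheory.DualNumber

/-! The power maps of relative Picard schemes are etale away from the residue characteristics. -/

set_option autoImplicit false
set_option linter.style.haveILetI false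
set_option backward.isDefEq.respectTransparency false
set_option backward.isDefEq.respectTransparency.types false
set_option maxHeartbeats 1000000

universe u

open CategoryTheory CategoryTheory.Limits AlgebraicGeometry

namespace Groth.Agent.PicNPow

open scoped Groth.Agent.H23.PicMul

variable {X S : Scheme.{u}} (f : X ⟶ S)

/-- Base changes of square-zero affine thickenings. -/
theorem square_zero {T T₀ : Over S} (jt : T₀ ⟶ T) {A B : CommRingCat.{u}} (e : T.left ≅ Spec A)
    (e₀ : T₀.left ≅ Spec B) (ψ : A ⟶ B) (hψ : Function.Surjective ψ) (hk : RingHom.ker ψ.hom ^ 2 = ⊥)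
    (h : jt.left ≫ e.hom = e₀.hom ≫ Spec.map ψ) :
    IsClosedImmersion (PicF.XTmap f jt) ∧ (PicF.XTmap f jt).ker ^ 2 = ⊥ := by
  have sq : IsPullback (PicF.XTmap f jt) (pullback.snd f T₀.hom ≫ e₀.hom) (pullback.snd f T.hom ≫ e.hom)
      (Spec.map ψ) :=
    (LineDesc.Rig.isPullback_XTmap jt).of_iso (Iso.refl _) (Iso.refl _) e₀ e (by simp) (by simp) (by simp) (by simp [h])
  haveI : IsClosedImmersion (PicF.XTmap f jt) :=
    MorphismProperty.of_isPullback (P := @IsClosedImmersion) sq.flip (IsClosedImmersion.spec_of_surjective ψ hψ)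
  refine ⟨inferInstance, Scheme.IdealSheafData.ext (funext fun V => ?_)⟩
  rw [Scheme.IdealSheafData.ideal_bot]
  show (PicF.XTmap f jt).ker.ideal V ^ 2 = ⊥
  have hk' : (PicF.XTmap f jt).ker.ideal V =
      (RingHom.ker ψ.hom).map (UnitsSeq.sc (pullback.snd f T.hom ≫ e.hom) V.1) := by
    ext a
    rw [Scheme.Hom.ker_apply, RingHom.mem_ker,
      UnitsSeq.app_eq_zero_iff (pullback.snd f T.hom ≫ e.hom) hψ sq V.2 a]
  rw [hk', ← Ideal.map_pow, hk, Ideal.map_bot]

/-- A square-zero thickening of affine schemes has nilpotent ideal. -/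
theorem isNilpotent_ker {A B : CommRingCat.{u}} (ψ : A ⟶ B) (hψ : Function.Surjective ψ)
    (hk : RingHom.ker ψ.hom ^ 2 = ⊥) : IsNilpotent (Spec.map ψ).ker := by
  haveI : IsClosedImmersion (Spec.map ψ) := IsClosedImmersion.spec_of_surjective ψ hψ
  refine ⟨2, Scheme.IdealSheafData.ext_of_isAffine ?_⟩
  show (Spec.map ψ).ker.ideal ⟨⊤, isAffineOpen_top _⟩ ^ 2 = (⊥ : Scheme.IdealSheafData _).ideal _
  rw [Scheme.IdealSheafData.ideal_bot]
  have hsp : IsPullback (Spec.map ψ) (𝟙 _) (𝟙 _) (Spec.map ψ) := IsPullback.of_vert_isIso ⟨by simp⟩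
  have hk' : (Spec.map ψ).ker.ideal ⟨⊤, isAffineOpen_top _⟩ =
      (RingHom.ker ψ.hom).map (UnitsSeq.sc (A := A) (𝟙 _) ⊤) := by
    ext y
    rw [Scheme.Hom.ker_apply, RingHom.mem_ker,
      UnitsSeq.app_eq_zero_iff (A := A) (𝟙 _) hψ hsp (isAffineOpen_top _) y]
  rw [hk', ← Ideal.map_pow, hk, Ideal.map_bot]
  rfl

variable {f} {P : Over S} {φ : ∀ T : Over S, PicF.Cl (PicF.XT f T) → (T ⟶ P)} (hP : PicRel.IsRelPic f P φ)

include hP in
/-- Etale charts on which a point and its power are given by classes. -/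
theorem exists_chart (n : ℕ) (m : P ⟶ P)
    (hm : ∀ (T : Over S) (c : PicF.Cl (PicF.XT f T)), PicF.IsInvertibleCl c → φ T (c ^ n) = φ T c ≫ m) (p : P.left) :
    ∃ (V W : Over S) (a : V ⟶ P) (r : W ⟶ P) (w : V ⟶ W) (c : PicF.Cl (PicF.XT f V)) (d : PicF.Cl (PicF.XT f W))
      (z : V.left), Etale a.left ∧ Etale r.left ∧ a.left z = p ∧ PicF.IsInvertibleCl c ∧ PicF.IsInvertibleCl d ∧
        φ V c = a ∧ φ W d = r ∧ a ≫ m = w ≫ r ∧ c ^ n = PicF.pullCl (PicF.XTmap f w) d := by
  obtain ⟨ι, U, hU, hcl⟩ := hP.locallySurjective P (𝟙 P)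
  obtain ⟨i, x, hx⟩ := hU p
  obtain ⟨i', x', hx'⟩ := hU (m.left p)
  obtain ⟨c₁, hc₁, hc₁q⟩ := hcl i
  obtain ⟨d, hd, hdr⟩ := hcl i'
  rw [Category.comp_id] at hc₁q hdr
  let V₁ := PicRel.ovr P (U i)
  let q : V₁ ⟶ P := PicRel.ovrHom P (U i)
  let W := PicRel.ovr P (U i')
  let r : W ⟶ P := PicRel.ovrHom P (U i')
  haveI : Etale q.left := (U i).prop
  haveI : Etale r.left := (U i').prop
  have hqx : q.left x = p := hx
  have hrx : r.left x' = m.left p := hx'
  let V₂ : Over S := Over.mk (pullback.fst (q.left ≫ m.left) r.left ≫ V₁.hom)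
  let a₂ : V₂ ⟶ V₁ := Over.homMk (pullback.fst (q.left ≫ m.left) r.left) rfl
  let w₂ : V₂ ⟶ W := Over.homMk (pullback.snd (q.left ≫ m.left) r.left) (by
    show _ = pullback.fst (q.left ≫ m.left) r.left ≫ V₁.hom
    rw [← Over.w r, ← Category.assoc, ← pullback.condition, Category.assoc, Category.assoc, Over.w m, Over.w q])
  have hcomm : a₂ ≫ q ≫ m = w₂ ≫ r := Over.OverMorphism.ext pullback.condition
  haveI : Etale a₂.left := MorphismProperty.pullback_fst _ _ ‹Etale r.left›
  obtain ⟨z₂, hz₂, -⟩ := Scheme.Pullback.exists_preimage_pullback (f := q.left ≫ m.left) (g := r.left) x x'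
    (by rw [Scheme.Hom.comp_apply, hqx, hrx])
  have hinv : ∀ {T T' : Over S} (g : T' ⟶ T) {y : PicF.Cl (PicF.XT f T)}, PicF.IsInvertibleCl y →
      PicF.IsInvertibleCl (PicF.pullCl (PicF.XTmap f g) y) := fun g _ hy => PicLoc.isInvertibleCl_pullCl _ hy
  have hpow : ∀ {T : Over S} {y : PicF.Cl (PicF.XT f T)}, PicF.IsInvertibleCl y → PicF.IsInvertibleCl (y ^ n) := by
    rintro T y ⟨L, rfl, hL⟩
    exact ⟨_, H23.PicMul.cl_tensorPow L n, H23.PicMul.isInvertible_tensorPow hL n⟩
  have heq : φ V₂ (PicF.pullCl (PicF.XTmap f a₂) c₁ ^ n) = φ V₂ (PicF.pullCl (PicF.XTmap f w₂) d) := by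
    rw [hm _ _ (hinv a₂ hc₁), hP.natural _ _ a₂ c₁ hc₁, hP.natural _ _ w₂ d hd, hc₁q, hdr, Category.assoc]
    exact hcomm
  obtain ⟨κ, U', hU', heq'⟩ := hP.locallyInjective V₂ _ _ (hpow (hinv a₂ hc₁)) (hinv w₂ hd) heq
  obtain ⟨k, z, hz⟩ := hU' z₂
  let V := PicRel.ovr V₂ (U' k)
  let t : V ⟶ V₂ := PicRel.ovrHom V₂ (U' k)
  haveI : Etale t.left := (U' k).prop
  have htz : t.left z = z₂ := hz
  refine ⟨V, W, t ≫ a₂ ≫ q, r, t ≫ w₂, PicF.pullCl (PicF.XTmap f (t ≫ a₂)) c₁, d, z, ?_, inferInstance, ?_,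
    hinv _ hc₁, hd, ?_, hdr, ?_, ?_⟩
  · exact inferInstanceAs (Etale (t.left ≫ a₂.left ≫ q.left))
  · rw [Over.comp_left, Over.comp_left, Scheme.Hom.comp_apply, Scheme.Hom.comp_apply, htz]
    exact (congrArg q.left hz₂).trans hqx
  · rw [hP.natural _ _ (t ≫ a₂) c₁ hc₁, hc₁q, Category.assoc]
  · rw [Category.assoc, Category.assoc, Category.assoc, ← hcomm]
  · rw [← LineDesc.Rig.pullCl_XTmap_comp, ← H23.PicMul.pullCl_pow, heq' k, LineDesc.Rig.pullCl_XTmap_comp]

/-- Formal unramifiedness is detected by derivations into the residue field. -/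
theorem formallyUnramified_of_derivation (A B : Type u) [CommRing A] [CommRing B] [IsLocalRing B] [Algebra A B]
    [Algebra.EssFiniteType A B] (h : ∀ D : Derivation A B (IsLocalRing.ResidueField B), D = 0) :
    Algebra.FormallyUnramified A B := by
  refine ⟨?_⟩
  haveI : Subsingleton (TensorProduct B (IsLocalRing.ResidueField B) (KaehlerDifferential A B)) := by
    refine subsingleton_of_forall_eq 0 fun x => ?_
    rw [← Module.forall_dual_apply_eq_zero_iff (IsLocalRing.ResidueField B)]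
    intro g
    let gB : KaehlerDifferential A B →ₗ[B] IsLocalRing.ResidueField B :=
      (g.restrictScalars B).comp (TensorProduct.mk B (IsLocalRing.ResidueField B) (KaehlerDifferential A B) 1)
    have h0 : gB = 0 := by
      refine (KaehlerDifferential.linearMapEquivDerivation A B).injective ?_
      rw [map_zero]
      exact h _
    induction x using TensorProduct.induction_on with
    | zero => exact map_zero g
    | add x y hx hy => rw [map_add, hx, hy, add_zero]
    | tmul a w =>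
      rw [show a ⊗ₜ[B] w = a • (1 : IsLocalRing.ResidueField B) ⊗ₜ[B] w by
        rw [TensorProduct.smul_tmul', smul_eq_mul, mul_one], map_smul]
      rw [show g ((1 : IsLocalRing.ResidueField B) ⊗ₜ[B] w) = gB w from rfl, h0, LinearMap.zero_apply, smul_zero]
  exact IsLocalRing.subsingleton_tensorProduct.1 ‹_›

section Chart

variable {n : ℕ} {m : P ⟶ P}
  (hm : ∀ (T : Over S) (c : PicF.Cl (PicF.XT f T)), PicF.IsInvertibleCl c → φ T (c ^ n) = φ T c ≫ m)
  {V W : Over S} {a : V ⟶ P} {r : W ⟶ P} {w : V ⟶ W} {c : PicF.Cl (PicF.XT f V)} {d : PicF.Cl (PicF.XT f W)}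
  [Etale a.left] [Etale r.left] (hc : PicF.IsInvertibleCl c) (hd : PicF.IsInvertibleCl d)
  (hca : φ V c = a) (hdr : φ W d = r) (haw : a ≫ m = w ≫ r) (hcd : c ^ n = PicF.pullCl (PicF.XTmap f w) d)
  (z : V.left) (hnz : IsUnit (n : V.left.presheaf.stalk z))

include hP hm hc hd hca hdr haw hcd hnz in
theorem smooth_nhd [LocallyOfFiniteType w.left] [IsLocallyNoetherian W.left] :
    ∃ U : V.left.Opens, z ∈ U ∧ Smooth (U.ι ≫ w.left) := by
  refine (Groth.Agent.S2793.result w.left z).2 ?_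
  intro A' _ _ _ h _ I hI hIm g₀ hg hmax _
  haveI : IsLocalRing (A' ⧸ I) := by
    haveI := Ideal.Quotient.nontrivial_iff.2 hI
    exact .of_surjective' (Ideal.Quotient.mk I) Ideal.Quotient.mk_surjective
  haveI : IsLocalHom (Ideal.Quotient.mk I) := .of_surjective _ Ideal.Quotient.mk_surjective
  have hnA : IsUnit (n : A') := by
    refine isUnit_of_map_unit (Ideal.Quotient.mk I) _ ?_
    rw [map_natCast, ← map_natCast g₀]
    exact hnz.map g₀
  have hI2 : I ^ 2 = ⊥ := by
    rw [eq_bot_iff, ← hIm, pow_two]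
    exact Ideal.mul_mono_right (IsLocalRing.le_maximalIdeal hI)
  let jq : Spec (CommRingCat.of (A' ⧸ I)) ⟶ Spec (CommRingCat.of A') :=
    Spec.map (CommRingCat.ofHom (Ideal.Quotient.mk I))
  let a₀ : Spec (CommRingCat.of (A' ⧸ I)) ⟶ V.left := Spec.map (CommRingCat.ofHom g₀) ≫ V.left.fromSpecStalk z
  let b : Spec (CommRingCat.of A') ⟶ W.left := Spec.map (CommRingCat.ofHom h) ≫ W.left.fromSpecStalk (w.left z)
  have hab : a₀ ≫ w.left = jq ≫ b := by
    simp only [a₀, b, jq, Category.assoc]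
    rw [← Scheme.SpecMap_stalkMap_fromSpecStalk, ← Category.assoc, ← Category.assoc, ← Spec.map_comp, ← Spec.map_comp]
    exact congrArg (fun z => Spec.map z ≫ _) (CommRingCat.hom_ext hg)
  let T : Over S := Over.mk (b ≫ W.hom)
  let T₀ : Over S := Over.mk (a₀ ≫ V.hom)
  let at0 : T₀ ⟶ V := Over.homMk a₀ rfl
  let jt : T₀ ⟶ T := Over.homMk jq (by
    show jq ≫ b ≫ W.hom = a₀ ≫ V.hom
    rw [← Category.assoc, ← hab, Category.assoc, Over.w w])
  let bt : T ⟶ W := Over.homMk b rfl
  have hjw : jt ≫ bt = at0 ≫ w := Over.OverMorphism.ext hab.symm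
  obtain ⟨hci, hsq⟩ := square_zero f jt (Iso.refl _) (Iso.refl _) (CommRingCat.ofHom (Ideal.Quotient.mk I))
    Ideal.Quotient.mk_surjective (by simpa using hI2) (by simp [jt, jq])
  haveI := hci
  obtain ⟨e, he, hec, hen⟩ := PicRoot.exists_root A' (pullback.snd f T.hom) (PicF.XTmap f jt) hsq n hnA
    (PicF.pullCl (PicF.XTmap f bt) d) (PicLoc.isInvertibleCl_pullCl _ hd) (PicF.pullCl (PicF.XTmap f at0) c)
    (PicLoc.isInvertibleCl_pullCl _ hc) (by
      rw [← H23.PicMul.pullCl_pow, hcd, LineDesc.Rig.pullCl_XTmap_comp, LineDesc.Rig.pullCl_XTmap_comp, hjw])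
  let g : T ⟶ P := φ T e
  have hjg : jq ≫ g.left = a₀ ≫ a.left := by
    refine congrArg CommaMorphism.left (?_ : jt ≫ g = at0 ≫ a)
    rw [← hP.natural _ _ jt e he, hec, hP.natural _ _ at0 c hc, hca]
  have hgm : g.left ≫ m.left = b ≫ r.left := by
    refine congrArg CommaMorphism.left (?_ : g ≫ m = bt ≫ r)
    rw [← hm T e he, hen, hP.natural _ _ bt d hd, hdr]
  obtain ⟨l, hl, hla⟩ := ((Groth.Agent.S1488.result a.left).1 inferInstance).2 A' I hI2 a₀ g.left hjg
  haveI hjc : IsClosedImmersion jq := IsClosedImmersion.spec_of_surjective _ Ideal.Quotient.mk_surjective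
  have hlw : l ≫ w.left = b := by
    refine AlgebraicGeometry.FormallyUnramified.hom_ext jq
      (isNilpotent_ker (A := CommRingCat.of A') (CommRingCat.ofHom (Ideal.Quotient.mk I)) Ideal.Quotient.mk_surjective
        (by simpa using hI2)) r.left ?_ ?_
    · rw [← Category.assoc, hl, hab]
    · rw [Category.assoc, show w.left ≫ r.left = a.left ≫ m.left from (congrArg CommaMorphism.left haw).symm,
        ← Category.assoc, hla, hgm]
  haveI : IsLocalHom g₀ := by
    have hm' : (IsLocalRing.maximalIdeal _).map g₀ ≤ IsLocalRing.maximalIdeal (A' ⧸ I) :=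
      Ideal.map_le_iff_le_comap.2 fun z hz => IsLocalRing.map_maximalIdeal_le (Ideal.Quotient.mk I) (hmax z hz)
    exact ((IsLocalRing.local_hom_TFAE g₀).out 0 2).2 hm'
  have hlz : l (IsLocalRing.closedPoint A') = z := by
    rw [← show a₀ (IsLocalRing.closedPoint (A' ⧸ I)) = z by
      simp only [a₀, Scheme.Hom.comp_apply]
      rw [show Spec.map (CommRingCat.ofHom g₀) (IsLocalRing.closedPoint (A' ⧸ I)) = IsLocalRing.closedPoint _ from
        IsLocalRing.comap_closedPoint g₀]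
      exact Scheme.fromSpecStalk_closedPoint, ← hl, Scheme.Hom.comp_apply]
    exact congrArg l (IsLocalRing.comap_closedPoint (Ideal.Quotient.mk I)).symm
  obtain ⟨γ, hγ⟩ : ∃ γ : V.left.presheaf.stalk z ⟶ CommRingCat.of A',
      Spec.map γ ≫ V.left.fromSpecStalk z = l := by
    subst hlz
    exact ⟨Scheme.stalkClosedPointTo l, Scheme.Spec_stalkClosedPointTo_fromSpecStalk l⟩
  refine ⟨γ.hom, ?_, ?_⟩
  · have h1 : Spec.map (w.left.stalkMap z ≫ γ) = Spec.map (CommRingCat.ofHom h) := by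
      rw [← cancel_mono (W.left.fromSpecStalk (w.left z)), Spec.map_comp, Category.assoc,
        Scheme.SpecMap_stalkMap_fromSpecStalk, reassoc_of% hγ]
      exact hlw
    exact congrArg CommRingCat.Hom.hom (Spec.map_injective h1)
  · have h1 : Spec.map (γ ≫ CommRingCat.ofHom (Ideal.Quotient.mk I)) = Spec.map (CommRingCat.ofHom g₀) := by
      rw [← cancel_mono (V.left.fromSpecStalk z), Spec.map_comp, Category.assoc, hγ]
      exact hl
    exact congrArg CommRingCat.Hom.hom (Spec.map_injective h1)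

include hP hm hc hd hca hdr haw hcd hnz in
theorem unramified_nhd [LocallyOfFiniteType w.left] :
    ∃ U : V.left.Opens, z ∈ U ∧ AlgebraicGeometry.FormallyUnramified (U.ι ≫ w.left) := by
  refine StalkLoc7.exists_unramified w.left z ?_
  let A := W.left.presheaf.stalk (w.left z)
  let B := V.left.presheaf.stalk z
  let κ := IsLocalRing.ResidueField B
  letI : Algebra A B := (w.left.stalkMap z).hom.toAlgebra
  haveI : Algebra.EssFiniteType A B := by
    rw [← RingHom.essFiniteType_algebraMap, RingHom.algebraMap_toAlgebra]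
    exact LocallyOfFiniteType.stalkMap w.left z
  change (algebraMap A B).FormallyUnramified
  rw [RingHom.formallyUnramified_algebraMap]
  refine formallyUnramified_of_derivation A B fun D => ?_
  let inl : κ →+* DualNumber κ := TrivSqZeroExt.inlHom κ κ
  let red : DualNumber κ →+* κ := (TrivSqZeroExt.fstHom κ κ κ).toRingHom
  let res : B →+* κ := IsLocalRing.residue B
  let l₁ : B →+* DualNumber κ :=
    { toFun := fun b => TrivSqZeroExt.inl (res b) + TrivSqZeroExt.inr (D b)
      map_zero' := by simp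
      map_one' := by simp
      map_add' := fun x y => by
        rw [map_add res, D.map_add, TrivSqZeroExt.inl_add, TrivSqZeroExt.inr_add]
        abel
      map_mul' := fun x y => by
        refine TrivSqZeroExt.ext ?_ ?_
        · simp only [TrivSqZeroExt.fst_add, TrivSqZeroExt.fst_mul, TrivSqZeroExt.fst_inl, TrivSqZeroExt.fst_inr,
            add_zero, map_mul]
        · simp only [TrivSqZeroExt.snd_add, TrivSqZeroExt.snd_mul, TrivSqZeroExt.fst_add, TrivSqZeroExt.fst_inl,
            TrivSqZeroExt.fst_inr, TrivSqZeroExt.snd_inl, TrivSqZeroExt.snd_inr, add_zero, zero_add, D.leibniz,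
            smul_eq_mul, op_smul_eq_smul]
          rfl }
  let ρ : Spec (CommRingCat.of (DualNumber κ)) ⟶ Spec (CommRingCat.of κ) := Spec.map (CommRingCat.ofHom inl)
  let j : Spec (CommRingCat.of κ) ⟶ Spec (CommRingCat.of (DualNumber κ)) := Spec.map (CommRingCat.ofHom red)
  let x₀ : Spec (CommRingCat.of κ) ⟶ V.left := Spec.map (CommRingCat.ofHom res) ≫ V.left.fromSpecStalk z
  let L₁ : Spec (CommRingCat.of (DualNumber κ)) ⟶ V.left := Spec.map (CommRingCat.ofHom l₁) ≫ V.left.fromSpecStalk z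
  have hjρ : j ≫ ρ = 𝟙 _ := by
    rw [← Spec.map_comp, ← Spec.map_id]
    exact congrArg Spec.map (CommRingCat.hom_ext (RingHom.ext fun a => TrivSqZeroExt.fst_inl κ a))
  have hjL : j ≫ L₁ = x₀ := by
    simp only [j, L₁, x₀]
    rw [← Category.assoc, ← Spec.map_comp]
    exact congrArg (fun t => Spec.map t ≫ _) (CommRingCat.hom_ext (RingHom.ext fun b => by simp [red, l₁]))
  have hLw : L₁ ≫ w.left = (ρ ≫ x₀) ≫ w.left := by
    simp only [ρ, L₁, x₀, Category.assoc]
    rw [← Scheme.SpecMap_stalkMap_fromSpecStalk, ← Category.assoc, ← Category.assoc, ← Category.assoc,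
      ← Spec.map_comp, ← Spec.map_comp, ← Spec.map_comp]
    refine congrArg (fun t => Spec.map t ≫ _) (CommRingCat.hom_ext (RingHom.ext fun y => ?_))
    show l₁ (algebraMap A B y) = inl (res (algebraMap A B y))
    simp [l₁, inl]
  let T : Over S := Over.mk ((ρ ≫ x₀) ≫ V.hom)
  let T₀ : Over S := Over.mk (x₀ ≫ V.hom)
  let jt : T₀ ⟶ T := Over.homMk j (by
    show j ≫ (ρ ≫ x₀) ≫ V.hom = x₀ ≫ V.hom
    rw [← Category.assoc, ← Category.assoc, hjρ, Category.id_comp])
  let rt : T ⟶ T₀ := Over.homMk ρ (Category.assoc _ _ _).symm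
  let t₁ : T ⟶ V := Over.homMk L₁ (by
    show L₁ ≫ V.hom = (ρ ≫ x₀) ≫ V.hom
    rw [← Over.w w, ← Category.assoc, hLw, Category.assoc])
  let t₂ : T ⟶ V := Over.homMk (ρ ≫ x₀) rfl
  let x₀t : T₀ ⟶ V := Over.homMk x₀ rfl
  have ht₁ : jt ≫ t₁ = x₀t := Over.OverMorphism.ext hjL
  have ht₂ : jt ≫ t₂ = x₀t := Over.OverMorphism.ext (by
    show j ≫ ρ ≫ x₀ = x₀
    rw [← Category.assoc, hjρ, Category.id_comp])
  have hjr : jt ≫ rt = 𝟙 _ := Over.OverMorphism.ext hjρ
  have htw : t₁ ≫ w = t₂ ≫ w := Over.OverMorphism.ext hLw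
  have hred : Function.Surjective red := fun a => ⟨TrivSqZeroExt.inl a, TrivSqZeroExt.fst_inl κ a⟩
  have hk : RingHom.ker red ^ 2 = ⊥ := TrivSqZeroExt.kerIdeal_sq κ κ
  obtain ⟨hci, hsq⟩ := square_zero f jt (Iso.refl _) (Iso.refl _) (CommRingCat.ofHom red) hred hk (by simp [jt, j])
  haveI := hci
  have hnA : IsUnit (n : DualNumber κ) := by
    rw [← map_natCast l₁]; exact hnz.map l₁
  have heq : PicF.pullCl (PicF.XTmap f t₁) c = PicF.pullCl (PicF.XTmap f t₂) c := by
    refine PicRoot.root_unique (DualNumber κ) (pullback.snd f T.hom) (PicF.XTmap f jt) hsq n hnA (PicF.XTmap f rt)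
      (by rw [LineDesc.Rig.XTmap_comp, hjr, LineDesc.Rig.XTmap_id]) _ _ (PicLoc.isInvertibleCl_pullCl _ hc)
      (PicLoc.isInvertibleCl_pullCl _ hc) ?_ ?_
    · rw [LineDesc.Rig.pullCl_XTmap_comp, LineDesc.Rig.pullCl_XTmap_comp, ht₁, ht₂]
    · rw [← H23.PicMul.pullCl_pow, ← H23.PicMul.pullCl_pow, hcd, LineDesc.Rig.pullCl_XTmap_comp,
        LineDesc.Rig.pullCl_XTmap_comp, htw]
  have ha : L₁ ≫ a.left = (ρ ≫ x₀) ≫ a.left := by
    refine congrArg CommaMorphism.left (?_ : t₁ ≫ a = t₂ ≫ a)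
    rw [← hca, ← hP.natural _ _ t₁ c hc, ← hP.natural _ _ t₂ c hc, heq]
  haveI : IsClosedImmersion j := IsClosedImmersion.spec_of_surjective _ hred
  have hL : L₁ = ρ ≫ x₀ := by
    refine AlgebraicGeometry.FormallyUnramified.hom_ext j
      (isNilpotent_ker (A := CommRingCat.of (DualNumber κ)) (CommRingCat.ofHom red) hred hk) a.left ?_ ha
    rw [hjL, ← Category.assoc, hjρ, Category.id_comp]
  have hl : CommRingCat.ofHom l₁ = CommRingCat.ofHom (inl.comp res) := by
    apply Spec.map_injective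
    rw [← cancel_mono (V.left.fromSpecStalk z)]
    refine hL.trans ?_
    simp only [ρ, x₀]
    rw [← Category.assoc, ← Spec.map_comp]
    rfl
  refine Derivation.ext fun b => ?_
  have := congrArg (fun g : B →+* DualNumber κ => (g b).snd) (congrArg CommRingCat.Hom.hom hl)
  simpa [l₁, inl] using this

end Chart

end Groth.Agent.PicNPow
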