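import Groth.Agent.S1025
import Groth.Agent.S0002
import Groth.Agent.S0034
import Groth.Agent.H1GeomRk.Unit
import Groth.Agent.PicClLib.Basic
import Groth.Agent.QCoh.OpenSub
import Groth.Agent.QCoh.DevissageP
import Groth.Agent.CurveCohLib.Proper
import Groth.Agent.SheafHomX.Coherent

/-! The locus of vanishing of the second cohomology of the structure sheaf of the fibres. -/

set_option autoImplicit false
set_option linter.style.haveILetI false
set_option backward.isDefEq.respectTransparency false
set_option backward.isDefEq.respectTransparency.types false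
set_option maxHeartbeats 1000000

universe u

open CategoryTheory CategoryTheory.Limits AlgebraicGeometry

namespace Groth.Agent.PicSmooth

variable {X S : Scheme.{u}} (f : X ⟶ S) [IsProper f]

/-- Vanishing of the cohomology of the structure sheaf of the fibres is open. -/
theorem exists_open_vanishing [IsLocallyNoetherian S] [Flat f] (n : ℕ) (s : S)
    (h : Subsingleton (Coh.HH (f.fiber s) (Coh.structureModule _) n)) :
    ∃ U : S.Opens, s ∈ U ∧ ∀ t ∈ U, Subsingleton (Coh.HH (f.fiber t) (Coh.structureModule _) n) := by
  haveI : LocallyOfFinitePresentation f := inferInstance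
  have hopen := S1025.result f (Coh.structureModule X) (H1GeomRk.isFP_structureModule X)
    (H1GeomRk.isFlatOver_structureModule f) n 1
  refine ⟨⟨_, hopen⟩, ?_, fun t ht => ?_⟩
  · obtain ⟨e⟩ := PicClLib.nonempty_pullback_structureModule (f.fiberι s)
    haveI : Subsingleton (PerfAux.fiberH f (Coh.structureModule X) s n) :=
      QCoh.subsingleton_HH_of_iso e.symm n h
    show PerfAux.betti f (Coh.structureModule X) s n < 1
    rw [PerfAux.betti, Module.finrank_zero_of_subsingleton]
    exact Nat.one_pos
  · obtain ⟨e⟩ := PicClLib.nonempty_pullback_structureModule (f.fiberι t)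
    letI : (f.fiber t).Over (Spec (CommRingCat.of (S.residueField t))) := ⟨f.fiberToSpecResidueField t⟩
    haveI : IsProper (f.fiber t ↘ Spec (CommRingCat.of (S.residueField t))) :=
      inferInstanceAs (IsProper (pullback.snd f (S.fromSpecResidueField t)))
    haveI : IsNoetherian (f.fiber t) := CurveCohLib.isNoetherian_of_proper (k := S.residueField t) (X := f.fiber t)
    have hM : Coh.IsCoh ((Scheme.Modules.pullback (f.fiberι t)).obj (Coh.structureModule X)) :=
      SheafHomX.isCoh_of_iso e.symm QCoh.isCoh_structureModule'
    haveI : Module.Finite (S.residueField t) (PerfAux.fiberH f (Coh.structureModule X) t n) :=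
      CurveCohLib.finite_HH (k := S.residueField t) hM n
    have h0 : Module.finrank (S.residueField t) (PerfAux.fiberH f (Coh.structureModule X) t n) = 0 :=
      Nat.lt_one_iff.1 ht
    exact QCoh.subsingleton_HH_of_iso e n (Module.finrank_zero_iff.1 h0)

/-- Vanishing on a fibre gives vanishing over every field extension of the residue field. -/
theorem subsingleton_baseChange (n : ℕ) {t : S}
    (h : Subsingleton (Coh.HH (f.fiber t) (Coh.structureModule _) n))
    {k' : Type u} [Field k'] (α : S.residueField t ⟶ CommRingCat.of k') {Y₀ : Scheme.{u}}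
    (g : Y₀ ⟶ X) (r : Y₀ ⟶ Spec (CommRingCat.of k'))
    (sq : IsPullback g r f (Spec.map α ≫ S.fromSpecResidueField t)) :
    Subsingleton (Coh.HH Y₀ (Coh.structureModule Y₀) n) := by
  letI : Algebra (S.residueField t) k' := α.hom.toAlgebra
  letI : (f.fiber t).Over (Spec (CommRingCat.of (S.residueField t))) := ⟨f.fiberToSpecResidueField t⟩
  letI : Y₀.Over (Spec (CommRingCat.of k')) := ⟨r⟩
  haveI : IsProper (f.fiber t ↘ Spec (CommRingCat.of (S.residueField t))) :=
    inferInstanceAs (IsProper (pullback.snd f (S.fromSpecResidueField t)))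
  haveI : IsNoetherian (f.fiber t) := CurveCohLib.isNoetherian_of_proper (k := S.residueField t) (X := f.fiber t)
  let g' : Y₀ ⟶ f.fiber t := pullback.lift g (r ≫ Spec.map α) (by rw [sq.w, Category.assoc])
  have hpb : IsPullback g' (Y₀ ↘ Spec (CommRingCat.of k')) (f.fiber t ↘ Spec (CommRingCat.of (S.residueField t)))
      (Spec.map (CommRingCat.ofHom (algebraMap (S.residueField t) k'))) := by
    refine IsPullback.of_right ?_ (pullback.lift_snd _ _ _) (IsPullback.of_hasPullback f (S.fromSpecResidueField t))
    rw [show g' ≫ pullback.fst f (S.fromSpecResidueField t) = g from pullback.lift_fst _ _ _]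
    exact sq
  haveI := QCoh.isQCoh_structureModule (X := f.fiber t)
  obtain ⟨e⟩ := S0034.result (S.residueField t) k' (f.fiber t) Y₀ g' hpb (Coh.structureModule _) n
  haveI := h
  obtain ⟨e'⟩ := PicClLib.nonempty_pullback_structureModule g'
  exact QCoh.subsingleton_HH_of_iso e' n e.symm.toEquiv.subsingleton

end Groth.Agent.PicSmooth
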