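import Groth.Agent.PicTangent.Kernel

/-! Roots of classes of invertible modules along square-zero thickenings of invertible index. -/

set_option autoImplicit false
set_option linter.style.haveILetI false
set_option backward.isDefEq.respectTransparency false
set_option backward.isDefEq.respectTransparency.types false
set_option maxHeartbeats 1000000

universe u

open CategoryTheory CategoryTheory.Limits AlgebraicGeometry Opposite TopologicalSpace

namespace Groth.Agent.PicRoot

open scoped Groth.Agent.H23.PicMul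

variable {Y : Scheme.{u}}

theorem val_pow (c : PicLoc.PicSet Y) (n : ℕ) :
    letI := H23.PicMul.law Y
    (c ^ n).1 = c.1 ^ n := by
  letI := H23.PicMul.law Y
  induction n with
  | zero => rw [pow_zero, pow_zero]; rfl
  | succ n ih => rw [pow_succ, pow_succ, ← ih]; rfl

theorem nsmul_bijective (A : Type u) [CommRing A] {n : ℕ} (hn : IsUnit (n : A)) (M : Type u) [AddCommGroup M]
    [Module A M] : Function.Bijective (fun x : M => n • x) := by
  obtain ⟨v, hv⟩ := hn
  refine ⟨fun x y h => ?_, fun x => ⟨(↑v⁻¹ : A) • x, ?_⟩⟩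
  · have h' : (n : A) • x = (n : A) • y := by rw [Nat.cast_smul_eq_nsmul, Nat.cast_smul_eq_nsmul]; exact h
    rw [← hv] at h'
    have := congrArg (fun z => (↑v⁻¹ : A) • z) h'
    simpa [smul_smul] using this
  · show n • _ = x
    rw [← Nat.cast_smul_eq_nsmul A, ← hv, smul_smul, Units.mul_inv, one_smul]

variable (J : Y.IdealSheafData)

theorem aux (A : Type u) [CommRing A] (π : Y ⟶ Spec (CommRingCat.of A)) (hJ : J ^ 2 = ⊥) (n : ℕ)
    (hn : IsUnit (n : A)) :
    (∀ D : PicF.Cl Y, PicF.IsInvertibleCl D → ∀ c₀ : PicF.Cl J.subscheme, PicF.IsInvertibleCl c₀ →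
      c₀ ^ n = PicF.pullCl J.subschemeι D →
      ∃ d, PicF.IsInvertibleCl d ∧ PicF.pullCl J.subschemeι d = c₀ ∧ d ^ n = D) ∧
    ∀ (r : Y ⟶ J.subscheme), J.subschemeι ≫ r = 𝟙 _ → ∀ d d' : PicF.Cl Y, PicF.IsInvertibleCl d →
      PicF.IsInvertibleCl d' → PicF.pullCl J.subschemeι d = PicF.pullCl J.subschemeι d' → d ^ n = d' ^ n → d = d' := by
  letI : Y.Over (Spec (CommRingCat.of A)) := ⟨π⟩
  haveI : Surjective J.subschemeι := ⟨LineLift.surjective_ι hJ⟩
  letI := H23.PicMul.law Y
  letI := H23.PicMul.law J.subscheme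
  obtain ⟨e, he, -⟩ := PicTangent.exists_pic_equiv (X := Y)
  obtain ⟨e₀, he₀⟩ := he J.subschemeι (H23.PicMul.pullMul _)
  let S : ShortComplex (CohTop.Ab Y.toTopCat) := ShortComplex.mk _ _ (UnitsSeq.expHom_comap hJ)
  have hS : S.ShortExact := UnitsSeq.shortExact_expHom hJ
  let g : Coh.HH Y (ClSub.idealMod J) 1 →+ CohTop.H (UnitsSh.unitsAb Y) 1 := Sheaf.H.map (UnitsSeq.expHom hJ) 1
  let q : CohTop.H (UnitsSh.unitsAb Y) 1 →+
      CohTop.H ((CohTop.push J.subschemeι.base).obj (UnitsSh.unitsAb J.subscheme)) 1 :=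
    Sheaf.H.map (UnitsSh.comap J.subschemeι) 1
  have hgq : ∀ x, q (g x) = 0 := fun x => by
    show Sheaf.H.map _ 1 (Sheaf.H.map _ 1 _) = 0
    rw [← Sheaf.H.map_comp_apply, UnitsSeq.expHom_comap, Sheaf.H.map_apply, Abelian.Ext.mk₀_zero,
      Abelian.Ext.comp_zero]
  refine ⟨fun D hD c₀ hc₀ hcn => ?_, fun r hr d d' hd hd' h0 hn' => ?_⟩
  · let D' : PicLoc.PicSet Y := ⟨D, hD⟩
    let c' : PicLoc.PicSet J.subscheme := ⟨c₀, hc₀⟩
    let x₃ := e₀ (Additive.ofMul c')
    have h3 : n • x₃ = q (e (Additive.ofMul D')) := by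
      rw [← map_nsmul, ← ofMul_pow, show c' ^ n = PicGrp.pullHom J.subschemeι (H23.PicMul.pullMul _) D' from
        Subtype.ext ((val_pow c' n).trans hcn)]
      exact he₀ D'
    have hδ : x₃.comp hS.extClass rfl = (0 : Coh.HH Y (ClSub.idealMod J) (1 + 1)) := by
      apply (nsmul_bijective A hn (Coh.HH Y (ClSub.idealMod J) (1 + 1))).1
      show n • _ = n • (0 : Coh.HH Y (ClSub.idealMod J) (1 + 1))
      rw [nsmul_zero]
      refine (map_nsmul (AddMonoidHom.mk' (fun z : Abelian.Ext _ S.X₃ 1 => z.comp hS.extClass rfl)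
        (fun a b => Abelian.Ext.add_comp a b hS.extClass rfl)) n x₃).symm.trans ?_
      show (n • x₃).comp hS.extClass rfl = 0
      rw [h3]
      exact (Abelian.Ext.comp_assoc_of_second_deg_zero _ _ _ _).trans
        (by rw [ShortComplex.ShortExact.comp_extClass hS, Abelian.Ext.comp_zero])
    obtain ⟨x₀, hx⟩ := Abelian.Ext.covariant_sequence_exact₃ _ hS x₃ rfl hδ
    let x : CohTop.H (UnitsSh.unitsAb Y) 1 := x₀
    have hk : q (e (Additive.ofMul D') - n • x) = 0 := by
      rw [map_sub, map_nsmul, show q x = x₃ from hx, h3, sub_self]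
    obtain ⟨η, hη⟩ := Abelian.Ext.covariant_sequence_exact₂ _ hS _ hk
    obtain ⟨η', hη'⟩ := (nsmul_bijective A hn (Coh.HH Y (ClSub.idealMod J) 1)).2 η
    let y := x + g η'
    have hy : n • y = e (Additive.ofMul D') := by
      rw [nsmul_add, ← map_nsmul, show n • η' = η from hη', show g η = _ from hη]
      abel
    refine ⟨(Additive.toMul (e.symm y)).1, (Additive.toMul (e.symm y)).2, ?_, ?_⟩
    · have h := he₀ (Additive.toMul (e.symm y))
      rw [ofMul_toMul, AddEquiv.apply_symm_apply, show Sheaf.H.map (UnitsSh.comap J.subschemeι) 1 y = x₃ from by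
        show q (x + g η') = x₃
        rw [map_add, hgq, add_zero]; exact hx] at h
      exact congrArg Subtype.val (Additive.ofMul.injective (e₀.injective h))
    · rw [← val_pow]
      refine congrArg Subtype.val (?_ : (Additive.toMul (e.symm y)) ^ n = D')
      rw [← toMul_nsmul, ← map_nsmul, hy, AddEquiv.symm_apply_apply, toMul_ofMul]
  · have hg : Function.Injective g := by
      let H1 : CohTop.Ab Y.toTopCat ⥤ AddCommGrpCat.{u} := Sheaf.functorH.{u, u, u, u} (Opens.grothendieckTopology Y.toTopCat) 1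
      haveI : Mono S.f := hS.mono_f
      have hs := (ShortComplex.Splitting.ofExactOfSection S hS.exact (UnitsSeq.sectionHom J.subschemeι r hr)
        (UnitsSeq.sectionHom_comap J.subschemeι r hr) hS.mono_f).map H1
      haveI := hs.shortExact.mono_f
      exact (AddCommGrpCat.mono_iff_injective _).1 hs.shortExact.mono_f
    let a : PicLoc.PicSet Y := ⟨d, hd⟩
    let b : PicLoc.PicSet Y := ⟨d', hd'⟩
    have hk : q (e (Additive.ofMul a) - e (Additive.ofMul b)) = 0 := by
      rw [map_sub, sub_eq_zero]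
      show Sheaf.H.map _ 1 _ = Sheaf.H.map _ 1 _
      rw [← he₀, ← he₀]
      exact congrArg (fun z => e₀ (Additive.ofMul z)) (Subtype.ext h0)
    obtain ⟨η, hη⟩ := Abelian.Ext.covariant_sequence_exact₂ _ hS _ hk
    have hη0 : η = 0 := by
      apply (nsmul_bijective A hn (Coh.HH Y (ClSub.idealMod J) 1)).1
      refine hg ?_
      show g (n • η) = g (n • 0)
      rw [nsmul_zero, map_zero, map_nsmul, show g η = e (Additive.ofMul a) - e (Additive.ofMul b) from hη, nsmul_sub,
        sub_eq_zero, ← map_nsmul e, ← map_nsmul e, ← ofMul_pow, ← ofMul_pow]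
      exact congrArg (fun z => e (Additive.ofMul z)) (Subtype.ext (by rw [val_pow, val_pow]; exact hn'))
    rw [hη0, Abelian.Ext.zero_comp, eq_comm, sub_eq_zero] at hη
    exact congrArg Subtype.val (Additive.ofMul.injective (e.injective hη))

theorem exists_root {Z : Scheme.{u}} (A : Type u) [CommRing A] (π : Y ⟶ Spec (CommRingCat.of A)) (i : Z ⟶ Y)
    [IsClosedImmersion i] (hi : i.ker ^ 2 = ⊥) (n : ℕ) (hn : IsUnit (n : A)) (D : PicF.Cl Y)
    (hD : PicF.IsInvertibleCl D) (c₀ : PicF.Cl Z) (hc₀ : PicF.IsInvertibleCl c₀)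
    (h : c₀ ^ n = PicF.pullCl i D) :
    ∃ d, PicF.IsInvertibleCl d ∧ PicF.pullCl i d = c₀ ∧ d ^ n = D := by
  haveI : IsIso i.toImage := inferInstance
  obtain ⟨d, hd, hdc, hdn⟩ := (aux i.ker A π hi n hn).1 D hD (PicF.pullCl (inv i.toImage) c₀)
    (PicLoc.isInvertibleCl_pullCl _ hc₀) (by
      rw [← H23.PicMul.pullCl_pow, h, PicClLib.pullCl_comp]
      exact congrArg (fun z => PicF.pullCl z D) ((IsIso.inv_comp_eq _).2 i.toImage_imageι.symm))
  refine ⟨d, hd, ?_, hdn⟩
  conv_lhs => rw [← i.toImage_imageι]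
  rw [← PicClLib.pullCl_comp, show PicF.pullCl i.imageι d = _ from hdc, PicClLib.pullCl_comp, IsIso.hom_inv_id,
    PicLoc.pullCl_id]

theorem root_unique {Z : Scheme.{u}} (A : Type u) [CommRing A] (π : Y ⟶ Spec (CommRingCat.of A)) (i : Z ⟶ Y)
    [IsClosedImmersion i] (hi : i.ker ^ 2 = ⊥) (n : ℕ) (hn : IsUnit (n : A)) (r : Y ⟶ Z) (hr : i ≫ r = 𝟙 _)
    (d d' : PicF.Cl Y) (hd : PicF.IsInvertibleCl d) (hd' : PicF.IsInvertibleCl d')
    (h0 : PicF.pullCl i d = PicF.pullCl i d') (h : d ^ n = d' ^ n) : d = d' := by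
  haveI : IsIso i.toImage := inferInstance
  have e : inv i.toImage ≫ i = i.ker.subschemeι := (IsIso.inv_comp_eq _).2 i.toImage_imageι.symm
  refine (aux i.ker A π hi n hn).2 (r ≫ i.toImage) ?_ d d' hd hd' ?_ h
  · rw [← e, Category.assoc, ← Category.assoc i, hr, Category.id_comp, IsIso.inv_hom_id]
  · rw [← e, ← PicClLib.pullCl_comp, ← PicClLib.pullCl_comp, h0]

end Groth.Agent.PicRoot
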